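import Groth.Agent.Lib.EffCartier.Basic
import Mathlib.RingTheory.Localization.Finiteness
import Mathlib.RingTheory.Ideal.Colon

/-!
# Products and quotients of effective Cartier ideal sheaves
-/

universe u

open CategoryTheory AlgebraicGeometry TopologicalSpace
open scoped nonZeroDivisors

namespace Groth.Agent.EffCartier

open AlgebraicGeometry.Scheme AlgebraicGeometry.Scheme.IdealSheafData

variable {X Y : Scheme.{u}} {I J K E : X.IdealSheafData}

lemma le_of_forall_exists (h : ∀ x : X, ∃ U : X.affineOpens, x ∈ U.1 ∧ I.ideal U ≤ J.ideal U) : I ≤ J := by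
  choose U hxU hU using h
  exact le_of_iSup_eq_top U (top_le_iff.mp fun x _ => Opens.mem_iSup.mpr ⟨x, hxU x⟩) hU

lemma eq_of_forall_exists (h : ∀ x : X, ∃ U : X.affineOpens, x ∈ U.1 ∧ I.ideal U = J.ideal U) : I = J :=
  le_antisymm (le_of_forall_exists fun x => let ⟨U, hx, e⟩ := h x; ⟨U, hx, e.le⟩)
    (le_of_forall_exists fun x => let ⟨U, hx, e⟩ := h x; ⟨U, hx, e.ge⟩)

lemma isEffCartierIdeal_top : BlowUp.IsEffCartierIdeal (⊤ : X.IdealSheafData) := by
  refine isEffCartierIdeal_iff.mpr fun x => ?_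
  obtain ⟨_, ⟨U, hU, rfl⟩, hxU, -⟩ :=
    X.isBasis_affineOpens.exists_subset_of_mem_open (Set.mem_univ x) isOpen_univ
  exact ⟨⟨U, hU⟩, hxU, 1, one_mem _, by simp⟩

lemma isEffCartierIdeal_mul (hI : BlowUp.IsEffCartierIdeal I) (hJ : BlowUp.IsEffCartierIdeal J) :
    BlowUp.IsEffCartierIdeal (I * J) := by
  refine isEffCartierIdeal_iff.mpr fun x => ?_
  obtain ⟨U, hxU, -, ⟨f, hf⟩, g, hg⟩ := exists_isEqn₂ hI hJ (W := ⊤) (Set.mem_univ x)
  exact ⟨U, hxU, f * g, mul_mem hf.mem hg.mem, by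
    rw [ideal_mul, Pi.mul_apply, hf.ideal_eq, hg.ideal_eq, Ideal.span_singleton_mul_span_singleton]⟩

lemma le_of_mul_le_mul_right (hE : BlowUp.IsEffCartierIdeal E) (h : I * E ≤ J * E) : I ≤ J := by
  refine le_of_forall_exists fun x => ?_
  obtain ⟨U, hxU, e, he⟩ := isEffCartierIdeal_iff.mp hE x
  refine ⟨U, hxU, fun a ha => ?_⟩
  have h' := h U
  rw [ideal_mul, ideal_mul, Pi.mul_apply, Pi.mul_apply, he.ideal_eq] at h'
  obtain ⟨b, hb, hab⟩ := Ideal.mem_mul_span_singleton.mp (h' (Ideal.mul_mem_mul ha (Ideal.subset_span rfl)))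
  exact (mul_cancel_right_mem_nonZeroDivisors he.mem).mp hab ▸ hb

lemma eq_of_mul_eq_mul_right (hE : BlowUp.IsEffCartierIdeal E) (h : I * E = J * E) : I = J :=
  le_antisymm (le_of_mul_le_mul_right hE h.le) (le_of_mul_le_mul_right hE h.ge)

/-- A factor of an effective Cartier ideal is effective Cartier. -/
lemma isEffCartierIdeal_of_mul_left (h : BlowUp.IsEffCartierIdeal (I * J)) : BlowUp.IsEffCartierIdeal I := by
  refine isEffCartierIdeal_iff.mpr fun x => ?_
  obtain ⟨U, hxU, f, hf⟩ := isEffCartierIdeal_iff.mp h x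
  have hfIJ : f ∈ I.ideal U * J.ideal U := by
    have := hf.ideal_eq
    rw [ideal_mul, Pi.mul_apply] at this
    rw [this]; exact Ideal.subset_span rfl
  have hsub : ∀ a ∈ I.ideal U, ∀ b ∈ J.ideal U, f ∣ a * b := fun a ha b hb => by
    have := hf.ideal_eq
    rw [ideal_mul, Pi.mul_apply] at this
    exact Ideal.mem_span_singleton.mp (this ▸ Ideal.mul_mem_mul ha hb)
  suffices h' : ∃ (a b c : Γ(X, U.1)), a ∈ I.ideal U ∧ b ∈ J.ideal U ∧ a * b = f * c ∧ x ∈ X.basicOpen c by
    obtain ⟨a, b, c, ha, hb, habc, hxc⟩ := h'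
    let ρ := (X.presheaf.map (homOfLE (X.basicOpen_le c)).op).hom
    have hu : IsUnit (ρ c) := RingedSpace.isUnit_res_basicOpen _ _
    refine ⟨X.affineBasicOpen c, hxc, ρ a, ?_, ?_⟩
    · have hm : ρ f * ρ c ∈ Γ(X, (X.affineBasicOpen c).1)⁰ := mul_mem (hf.basicOpen c).mem hu.mem_nonZeroDivisors
      rw [← map_mul, ← habc, map_mul] at hm
      exact (mul_mem_nonZeroDivisors.mp hm).1
    · rw [← I.map_ideal (X.affineBasicOpen_le c)]
      refine le_antisymm (Ideal.map_le_iff_le_comap.mpr fun a' ha' => ?_)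
        ((Ideal.span_singleton_le_iff_mem _).mpr (Ideal.mem_map_of_mem _ ha))
      obtain ⟨d, hd⟩ := hsub a' ha' b hb
      have key : a' * c = a * d := (mul_cancel_left_mem_nonZeroDivisors hf.mem).mp (by
        linear_combination (-a') * habc + a * hd)
      have key' : ρ a' * ρ c = ρ a * ρ d := by rw [← map_mul, key, map_mul]
      rw [Ideal.mem_comap]
      show ρ a' ∈ Ideal.span {ρ a}
      refine Ideal.mem_span_singleton.mpr (hu.dvd_mul_right.mp ?_)
      exact ⟨ρ d, key'⟩
  by_contra hne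
  push Not at hne
  have hmax : ∀ y ∈ I.ideal U * J.ideal U, ∀ c, y = f * c → x ∉ X.basicOpen c := by
    intro y hy
    induction hy using Submodule.mul_induction_on' with
    | mem_mul_mem a ha b hb => exact fun c hc => hne a b c ha hb hc
    | add p hp q hq ihp ihq =>
      intro c hc hxc
      obtain ⟨cp, hcp⟩ := Ideal.mem_span_singleton.mp (hf.ideal_eq ▸ (by rw [ideal_mul]; exact hp : p ∈ (I * J).ideal U))
      obtain ⟨cq, hcq⟩ := Ideal.mem_span_singleton.mp (hf.ideal_eq ▸ (by rw [ideal_mul]; exact hq : q ∈ (I * J).ideal U))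
      have : c = cp + cq := (mul_cancel_left_mem_nonZeroDivisors hf.mem).mp (by
        linear_combination -hc + hcp + hcq)
      rw [this, Scheme.mem_basicOpen _ _ _ hxU, map_add] at hxc
      rcases IsLocalRing.isUnit_or_isUnit_of_isUnit_add hxc with h1 | h1
      · exact ihp cp hcp ((Scheme.mem_basicOpen _ _ _ hxU).mpr h1)
      · exact ihq cq hcq ((Scheme.mem_basicOpen _ _ _ hxU).mpr h1)
  exact hmax f hfIJ 1 (by simp) (by rw [Scheme.mem_basicOpen _ _ _ hxU, map_one]; exact isUnit_one)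

lemma isEffCartierIdeal_of_mul_right (h : BlowUp.IsEffCartierIdeal (I * J)) : BlowUp.IsEffCartierIdeal J :=
  isEffCartierIdeal_of_mul_left (mul_comm I J ▸ h)

lemma fg_ideal (hE : BlowUp.IsEffCartierIdeal E) (U : X.affineOpens) : (E.ideal U).FG := by
  have : ∀ x : U.1, ∃ r : Γ(X, U.1), x.1 ∈ X.basicOpen r ∧ ∃ f, IsEqn E (X.affineBasicOpen r) f := by
    intro ⟨x, hx⟩
    obtain ⟨V, hxV, -, f, hf⟩ := exists_isEqn hE (W := ⊤) (Set.mem_univ x)
    obtain ⟨r, s, hrs, hxr⟩ := exists_basicOpen_le_affine_inter U.2 V.2 x ⟨hx, hxV⟩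
    exact ⟨r, hxr, (hf.basicOpen s).congr (Subtype.ext hrs.symm)⟩
  choose r hxr f hf using this
  refine Ideal.fg_of_localizationSpan (Set.range r) ?_ ?_
  · rw [← U.2.self_le_iSup_basicOpen_iff]
    exact fun x hx => Opens.mem_iSup.mpr ⟨⟨_, ⟨x, hx⟩, rfl⟩, hxr ⟨x, hx⟩⟩
  · rintro ⟨_, x, rfl⟩
    have := U.2.isLocalization_basicOpen (r x)
    letI : Algebra Γ(X, U.1) Γ(X, X.basicOpen (r x)) := (X.presheaf.map (homOfLE (X.basicOpen_le (r x))).op).hom.toAlgebra
    let e := IsLocalization.algEquiv (.powers (r x)) Γ(X, X.basicOpen (r x)) (Localization.Away (r x))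
    have he : algebraMap Γ(X, U.1) (Localization.Away (r x)) = e.toAlgHom.toRingHom.comp (algebraMap _ _) :=
      e.toAlgHom.comp_algebraMap.symm
    rw [he, ← Ideal.map_map]
    refine Ideal.FG.map ?_ _
    show ((E.ideal U).map (X.presheaf.map (homOfLE (X.basicOpen_le (r x))).op).hom).FG
    erw [E.map_ideal_basicOpen U (r x), (hf x).ideal_eq]
    exact Submodule.fg_span_singleton _

lemma map_colon {A : Type*} (B : Type*) [CommRing A] [CommRing B] [Algebra A B] (M : Submonoid A)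
    [IsLocalization M B] (I E : Ideal A) (hE : E.FG) :
    (I.colon (E : Set A)).map (algebraMap A B) = (I.map (algebraMap A B)).colon (E.map (algebraMap A B) : Set B) := by
  classical
  refine le_antisymm (Ideal.map_le_iff_le_comap.mpr fun a ha => ?_) fun z hz => ?_
  · rw [Ideal.mem_comap, Submodule.mem_colon]
    intro e he
    rw [SetLike.mem_coe, Ideal.map] at he
    induction he using Submodule.span_induction with
    | mem e he =>
      obtain ⟨e₀, he₀, rfl⟩ := he
      rw [smul_eq_mul, ← map_mul]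
      exact Ideal.mem_map_of_mem _ (Submodule.mem_colon.mp ha e₀ he₀)
    | zero => simp
    | add p q _ _ hp hq => rw [smul_add]; exact add_mem hp hq
    | smul c p _ hp => rw [smul_comm]; exact Submodule.smul_mem _ c hp
  · obtain ⟨⟨a, s⟩, hs⟩ := IsLocalization.surj M z
    obtain ⟨gens, hgens⟩ := hE
    have hden : ∀ e ∈ E, ∃ m : M, (m : A) * (a * e) ∈ I := by
      intro e he
      have h1 : algebraMap A B (a * e) ∈ I.map (algebraMap A B) := by
        rw [map_mul, ← hs, mul_right_comm]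
        exact Ideal.mul_mem_right _ _ (Submodule.mem_colon.mp hz _ (Ideal.mem_map_of_mem _ he))
      obtain ⟨m, hmM, hm⟩ := (IsLocalization.algebraMap_mem_map_algebraMap_iff M B _ _).mp h1
      exact ⟨⟨m, hmM⟩, hm⟩
    choose m hm using hden
    have hmem : ∀ e ∈ gens, e ∈ E := fun e he => hgens ▸ Ideal.subset_span he
    let N : M := ∏ e : gens, m e.1 (hmem e.1 e.2)
    have hN : (N : A) * a ∈ I.colon (E : Set A) := by
      rw [Submodule.mem_colon]
      intro e he
      rw [SetLike.mem_coe, ← hgens] at he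
      induction he using Submodule.span_induction with
      | mem e he =>
        obtain ⟨t, ht⟩ : (m e (hmem e he) : A) ∣ (N : A) := by
          have := map_dvd M.subtype (Finset.dvd_prod_of_mem (fun e : gens => m e.1 (hmem e.1 e.2)) (Finset.mem_univ ⟨e, he⟩))
          exact this
        rw [smul_eq_mul, ht, show (m e (hmem e he) : A) * t * a * e = t * ((m e (hmem e he) : A) * (a * e)) by ring]
        exact Ideal.mul_mem_left _ _ (hm e (hmem e he))
      | zero => simp
      | add p q _ _ hp hq => rw [smul_add]; exact add_mem hp hq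
      | smul c p _ hp => rw [smul_comm]; exact Submodule.smul_mem _ c hp
    have hu := (IsLocalization.map_units B N).mul (IsLocalization.map_units B s)
    refine (Ideal.unit_mul_mem_iff_mem _ hu).mp ?_
    rw [mul_assoc, mul_comm (algebraMap A B s.1) z, hs, ← map_mul]
    exact Ideal.mem_map_of_mem _ hN

/-- The colon ideal sheaf `(I : E)` for an effective Cartier `E`. -/
def colon (I : X.IdealSheafData) (hE : BlowUp.IsEffCartierIdeal E) : X.IdealSheafData where
  ideal U := (I.ideal U).colon (E.ideal U : Set Γ(X, U.1))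
  map_ideal_basicOpen U r := by
    letI : Algebra Γ(X, U.1) Γ(X, X.basicOpen r) := (X.presheaf.map (homOfLE (X.basicOpen_le r)).op).hom.toAlgebra
    have : IsLocalization.Away r Γ(X, X.basicOpen r) := U.2.isLocalization_basicOpen r
    rw [← I.map_ideal_basicOpen U r, ← E.map_ideal_basicOpen U r]
    exact map_colon Γ(X, X.basicOpen r) (.powers r) (I.ideal U) (E.ideal U) (fg_ideal hE U)

lemma colon_mul (hE : BlowUp.IsEffCartierIdeal E) (hle : I ≤ E) : colon I hE * E = I := by
  refine eq_of_forall_exists fun x => ?_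
  obtain ⟨U, hxU, e, he⟩ := isEffCartierIdeal_iff.mp hE x
  refine ⟨U, hxU, ?_⟩
  rw [ideal_mul, Pi.mul_apply]
  refine le_antisymm (Ideal.mul_le.mpr fun a ha b hb => Submodule.mem_colon.mp ha b hb) fun a ha => ?_
  obtain ⟨c, rfl⟩ := Ideal.mem_span_singleton.mp (he.ideal_eq ▸ hle U ha)
  rw [mul_comm e c]
  have hemem : e ∈ E.ideal U := by rw [he.ideal_eq]; exact Ideal.subset_span rfl
  refine Ideal.mul_mem_mul ?_ hemem
  show c ∈ (I.ideal U).colon _
  rw [Submodule.mem_colon]
  intro b hb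
  obtain ⟨d, rfl⟩ := Ideal.mem_span_singleton.mp (he.ideal_eq ▸ hb)
  rw [smul_eq_mul, show c * (e * d) = d * (e * c) by ring]
  exact Ideal.mul_mem_left _ _ ha

lemma comap_mul (A B : Y.IdealSheafData) (φ : X ⟶ Y) : (A * B).comap φ = A.comap φ * B.comap φ := by
  refine eq_of_forall_exists fun x => ?_
  obtain ⟨_, ⟨U, hU, rfl⟩, hxU, -⟩ :=
    Y.isBasis_affineOpens.exists_subset_of_mem_open (Set.mem_univ (φ x)) isOpen_univ
  obtain ⟨_, ⟨V, hV, rfl⟩, hxV, hVU : V ≤ φ ⁻¹ᵁ U⟩ :=
    X.isBasis_affineOpens.exists_subset_of_mem_open (show x ∈ φ ⁻¹ᵁ U from hxU) (φ ⁻¹ᵁ U).isOpen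
  refine ⟨⟨V, hV⟩, hxV, ?_⟩
  simp only [ideal_mul, Pi.mul_apply, comap_ideal _ φ ⟨U, hU⟩ ⟨V, hV⟩ hVU, Ideal.map_mul]

/-- A pullback of an ideal sheaf is trivial as soon as its support is missed. -/
lemma comap_eq_top (A : Y.IdealSheafData) (φ : X ⟶ Y) (h : ∀ x, φ x ∉ A.support) : A.comap φ = ⊤ := by
  rw [← support_eq_bot_iff, support_comap]
  exact SetLike.ext fun x => ⟨fun hx => (h x hx).elim, fun hx => hx.elim⟩

lemma not_mem_support_of_comap_eq_top {A : Y.IdealSheafData} {φ : X ⟶ Y} (h : A.comap φ = ⊤) (x : X) :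
    φ x ∉ A.support := fun hx => by
  have : x ∈ (A.comap φ).support := by rw [support_comap]; exact hx
  rw [h, support_top] at this
  exact this.elim

/-- A generator of an effective Cartier ideal on an affine open is a nonzerodivisor. -/
lemma mem_nonZeroDivisors_of_ideal_eq (hE : BlowUp.IsEffCartierIdeal E) (W : X.affineOpens) (a : Γ(X, W.1))
    (ha : E.ideal W = Ideal.span {a}) : a ∈ Γ(X, W.1)⁰ := by
  rw [mem_nonZeroDivisors_iff_right]
  intro z hz
  have h : ∀ x : W.1, ∃ (V : X.affineOpens) (e : V.1 ≤ W.1), x.1 ∈ V.1 ∧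
      X.presheaf.map (homOfLE e).op z = 0 := by
    intro ⟨x, hx⟩
    obtain ⟨V, hxV, hVW, f, hf⟩ := exists_isEqn hE hx
    refine ⟨V, hVW, hxV, ?_⟩
    have h1 : Ideal.span {X.presheaf.map (homOfLE hVW).op a} = Ideal.span {f} := by
      rw [← hf.ideal_eq, ← E.map_ideal (U := V) (V := W) hVW, ha, Ideal.map_span, Set.image_singleton]
      rfl
    obtain ⟨c, hc⟩ := Ideal.mem_span_singleton.mp (h1.le (Ideal.subset_span rfl))
    obtain ⟨d, hd⟩ := Ideal.mem_span_singleton.mp (h1.ge (Ideal.subset_span rfl))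
    have hcd : c * d = 1 := (mul_cancel_left_mem_nonZeroDivisors hf.mem).mp
      (by rw [← mul_assoc, ← hc, ← hd, mul_one])
    have hm : X.presheaf.map (homOfLE hVW).op a ∈ Γ(X, V.1)⁰ := by
      rw [hc]; exact mul_mem hf.mem (IsUnit.of_mul_eq_one d hcd).mem_nonZeroDivisors
    refine (mem_nonZeroDivisors_iff_right.mp hm) _ ?_
    rw [← map_mul, hz, map_zero]
  refine X.IsSheaf.section_ext fun x hx => ?_
  obtain ⟨V, e, hxV, hz0⟩ := h ⟨x, hx⟩
  exact ⟨V.1, e, hxV, by rw [map_zero]; exact hz0⟩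

end Groth.Agent.EffCartier
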