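import Mathlib.AlgebraicGeometry.IdealSheaf.Functorial
import Mathlib.AlgebraicGeometry.Morphisms.Affine

/-!
# The inverse image of an ideal sheaf on affine opens
-/

universe u

open CategoryTheory AlgebraicGeometry

namespace Groth.Agent.EffCartier

open AlgebraicGeometry.Scheme AlgebraicGeometry.Scheme.IdealSheafData

variable {X Y : Scheme.{u}}

lemma map_ideal_le_comap_ideal (I : Y.IdealSheafData) (f : X ⟶ Y) (U : Y.affineOpens) (V : X.affineOpens)
    (e : V.1 ≤ f ⁻¹ᵁ U.1) : (I.ideal U).map (f.appLE U V e).hom ≤ (I.comap f).ideal V := by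
  rw [Ideal.map_le_iff_le_comap]
  intro r hr
  have h : (I.comap f).subschemeι.app (f ⁻¹ᵁ U.1) (f.app U r) = 0 :=
    Hom.ideal_ker_le ((I.comap f).subschemeι ≫ f) U (I.le_map_comap f U hr)
  rw [Ideal.mem_comap, ← ker_subschemeι_app, RingHom.mem_ker]
  change (f.app U ≫ X.presheaf.map (homOfLE e).op ≫ (I.comap f).subschemeι.app V.1) r = 0
  rw [Hom.naturality]
  simp only [CommRingCat.comp_apply]
  rw [h, map_zero]

lemma comap_ideal_top [IsAffine X] [IsAffine Y] (I : Y.IdealSheafData) (g : X ⟶ Y) :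
    (I.comap g).ideal ⟨⊤, isAffineOpen_top X⟩ = (I.ideal ⟨⊤, isAffineOpen_top Y⟩).map g.appTop.hom := by
  refine le_antisymm ?_ ?_
  · have h : I.comap g ≤ ofIdealTop ((I.ideal ⟨⊤, isAffineOpen_top Y⟩).map g.appTop.hom) := by
      rw [← le_map_iff_comap_le]
      refine le_of_isAffine ?_
      rw [ideal_map _ _ _ (isAffineOpen_top X)]
      intro r hr
      rw [Ideal.mem_comap]
      show g.appTop r ∈ _
      simp only [ofIdealTop_ideal, op_id]
      erw [CategoryTheory.Functor.map_id]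
      exact Ideal.mem_map_of_mem _ (Ideal.mem_map_of_mem _ hr)
    simpa using h ⟨⊤, isAffineOpen_top X⟩
  · have := map_ideal_le_comap_ideal I g ⟨⊤, isAffineOpen_top Y⟩ ⟨⊤, isAffineOpen_top X⟩ le_rfl
    simpa [Hom.appLE] using this

/-- On affine opens `V ≤ f ⁻¹ᵁ U`, the inverse image ideal sheaf is the extended ideal. -/
lemma comap_ideal (I : Y.IdealSheafData) (f : X ⟶ Y) (U : Y.affineOpens) (V : X.affineOpens)
    (e : V.1 ≤ f ⁻¹ᵁ U.1) : (I.comap f).ideal V = (I.ideal U).map (f.appLE U V e).hom := by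
  have : IsAffine U.1 := U.2
  have : IsAffine V.1 := V.2
  have h1 : (I.comap f).comap V.1.ι = (I.comap U.1.ι).comap (f.resLE U V e) := by
    rw [← comap_comp, ← comap_comp, Hom.resLE_comp_ι]
  have h2 := congrArg (fun J => J.ideal ⟨⊤, isAffineOpen_top _⟩) h1
  simp only [comap_ideal_top, ideal_comap_of_isOpenImmersion, Opens.ι_appIso, Iso.refl_inv] at h2
  erw [Ideal.comap_id, Ideal.comap_id] at h2
  have hU : I.ideal ⟨U.1.ι ''ᵁ ⊤, (isAffineOpen_top U.1.toScheme).image_of_isOpenImmersion U.1.ι⟩ =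
      (I.ideal U).map (Y.presheaf.map (eqToHom U.1.ι_image_top).op).hom := (map_ideal' I _).symm
  have hV : (I.comap f).ideal V = ((I.comap f).ideal ⟨V.1.ι ''ᵁ ⊤,
      (isAffineOpen_top V.1.toScheme).image_of_isOpenImmersion V.1.ι⟩).map
      (X.presheaf.map (eqToHom V.1.ι_image_top.symm).op).hom := (map_ideal' (I.comap f) _).symm
  rw [hV]
  refine (congrArg (Ideal.map (X.presheaf.map (eqToHom V.1.ι_image_top.symm).op).hom) h2).trans ?_
  rw [hU]
  erw [Ideal.map_map, Ideal.map_map]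
  congr 1
  have key : U.1.topIso.inv ≫ (f.resLE U V e).appTop ≫ V.1.topIso.hom = f.appLE U V e := by
    rw [Hom.appTop, Hom.resLE_app_top]
    simp only [Opens.topIso_inv, Opens.topIso_hom, Category.assoc]
    erw [← Functor.map_comp_assoc, ← Functor.map_comp]
    erw [Subsingleton.elim (_ ≫ _) (𝟙 _), Subsingleton.elim (_ ≫ _) (𝟙 _), CategoryTheory.Functor.map_id,
      CategoryTheory.Functor.map_id, Category.id_comp, Category.comp_id]
  exact congrArg CommRingCat.Hom.hom key

end Groth.Agent.EffCartier
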