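import Groth.Agent.Lib.EffCartier.Mul
import Mathlib.RingTheory.Ideal.MinimalPrime.Localization

/-!
# Scheme-theoretically dense opens, scheme-theoretic images and blowing ups off the centre
-/

universe u

open CategoryTheory CategoryTheory.Limits AlgebraicGeometry TopologicalSpace
open scoped nonZeroDivisors

namespace Groth.Agent.EffCartier

open AlgebraicGeometry.Scheme AlgebraicGeometry.Scheme.IdealSheafData

variable {X Y Z : Scheme.{u}} {I : X.IdealSheafData}

lemma dominant_cmpl (hI : BlowUp.IsEffCartierIdeal I) : IsSchemeTheoreticallyDominant (cmpl I).ι := by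
  have := quasiCompact_interior hI
  refine ⟨eq_of_forall_exists fun x => ?_⟩
  obtain ⟨U, hxU, f, hf⟩ := isEffCartierIdeal_iff.mp hI x
  refine ⟨U, hxU, ?_⟩
  rw [Hom.ker_apply, ideal_bot, Pi.bot_apply, ← RingHom.injective_iff_ker_eq_bot, injective_iff_map_eq_zero]
  intro a ha
  letI : Algebra Γ(X, U.1) Γ(X, X.basicOpen f) := (X.presheaf.map (homOfLE (X.basicOpen_le f)).op).hom.toAlgebra
  have : IsLocalization.Away f Γ(X, X.basicOpen f) := U.2.isLocalization_basicOpen f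
  refine IsLocalization.injective Γ(X, X.basicOpen f) (M := .powers f) (Submonoid.powers_le.mpr hf.mem) ?_
  rw [map_zero]
  have hle : X.basicOpen f ≤ (cmpl I).ι ''ᵁ ((cmpl I).ι ⁻¹ᵁ U.1) := by
    rw [Scheme.Hom.image_preimage_eq_opensRange_inf, Scheme.Opens.opensRange_ι, basicOpen_eq hf]
  have h : X.presheaf.map (homOfLE hle).op ((cmpl I).ι.app U.1 a) = 0 :=
    (congrArg (fun z => X.presheaf.map (homOfLE hle).op z) ha).trans (map_zero (X.presheaf.map (homOfLE hle).op).hom)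
  rw [Scheme.Opens.ι_app] at h
  show X.presheaf.map (homOfLE (X.basicOpen_le f)).op a = 0
  rw [Subsingleton.elim (homOfLE (X.basicOpen_le f)) (homOfLE hle ≫ homOfLE
    ((Scheme.Hom.image_preimage_eq_opensRange_inf _ _).trans_le inf_le_right)), op_comp, Functor.map_comp]
  exact h

/-- If a scheme-theoretically dominant morphism factors through `g`, then `g` is scheme-theoretically dominant. -/
lemma dominant_of_comp {f : X ⟶ Y} (g : Y ⟶ Z) [IsSchemeTheoreticallyDominant (f ≫ g)] :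
    IsSchemeTheoreticallyDominant g :=
  ⟨le_bot_iff.mp ((f.le_ker_comp g).trans_eq (f ≫ g).ker_eq_bot)⟩

lemma dominant_of_range_le (f : X ⟶ Y) [IsSchemeTheoreticallyDominant f] (V : Y.Opens)
    (h : ∀ x, f x ∈ V) : IsSchemeTheoreticallyDominant V.ι := by
  have hr : Set.range f ⊆ Set.range V.ι := by
    rintro _ ⟨x, rfl⟩; rw [Scheme.Opens.range_ι]; exact h x
  have : IsSchemeTheoreticallyDominant (IsOpenImmersion.lift V.ι f hr ≫ V.ι) := by
    rw [IsOpenImmersion.lift_fac]; infer_instance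
  exact dominant_of_comp (f := IsOpenImmersion.lift V.ι f hr) V.ι

lemma dominant_mono {U V : X.Opens} (h : U ≤ V) [IsSchemeTheoreticallyDominant U.ι] :
    IsSchemeTheoreticallyDominant V.ι :=
  dominant_of_range_le U.ι V fun x => h x.2

lemma dominant_inf (U V : X.Opens) [IsSchemeTheoreticallyDominant U.ι] [IsSchemeTheoreticallyDominant V.ι]
    [QuasiCompact U.ι] : IsSchemeTheoreticallyDominant (U ⊓ V).ι := by
  have : IsSchemeTheoreticallyDominant (X.homOfLE (inf_le_right : U ⊓ V ≤ V)) :=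
    IsSchemeTheoreticallyDominant.of_isPullback (f := U.ι) (g := V.ι) (isPullback_opens_inf U V)
  rw [← X.homOfLE_ι (inf_le_right : U ⊓ V ≤ V)]
  infer_instance

lemma quasiCompact_inf (U V : X.Opens) [QuasiCompact U.ι] [QuasiCompact V.ι] : QuasiCompact (U ⊓ V).ι := by
  have : QuasiCompact (X.homOfLE (inf_le_right : U ⊓ V ≤ V)) :=
    MorphismProperty.of_isPullback (P := @QuasiCompact) (isPullback_opens_inf U V) ‹_›
  rw [← X.homOfLE_ι (inf_le_right : U ⊓ V ≤ V)]
  infer_instance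

lemma dominant_preimage (φ : Y ⟶ X) [Flat φ] (U : X.Opens) [IsSchemeTheoreticallyDominant U.ι]
    [QuasiCompact U.ι] : IsSchemeTheoreticallyDominant (φ ⁻¹ᵁ U).ι :=
  IsSchemeTheoreticallyDominant.of_isPullback (f := U.ι) (g := φ) (isPullback_morphismRestrict φ U)

lemma quasiCompact_preimage (φ : Y ⟶ X) (U : X.Opens) [QuasiCompact U.ι] : QuasiCompact (φ ⁻¹ᵁ U).ι :=
  MorphismProperty.of_isPullback (P := @QuasiCompact) (isPullback_morphismRestrict φ U) ‹_›

lemma dominant_toImage (f : X ⟶ Y) [QuasiCompact f] : IsSchemeTheoreticallyDominant f.toImage := by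
  refine ⟨eq_of_forall_exists fun x => ?_⟩
  obtain ⟨_, ⟨U, hU, rfl⟩, hxU, -⟩ :=
    Y.isBasis_affineOpens.exists_subset_of_mem_open (Set.mem_univ (f.imageι x)) isOpen_univ
  refine ⟨⟨f.imageι ⁻¹ᵁ U, hU.preimage f.imageι⟩, hxU, ?_⟩
  rw [Hom.ker_apply, ideal_bot, Pi.bot_apply, ← RingHom.injective_iff_ker_eq_bot]
  exact f.toImage_app_injective ⟨U, hU⟩

lemma dominant_preimage_imageι (f : X ⟶ Y) [QuasiCompact f] (W : Y.Opens) (h : ∀ x, f x ∈ W) :
    IsSchemeTheoreticallyDominant (f.imageι ⁻¹ᵁ W).ι := by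
  have := dominant_toImage f
  refine dominant_of_range_le f.toImage _ fun x => ?_
  show f.imageι (f.toImage x) ∈ W
  rw [← Scheme.Hom.comp_apply, f.toImage_imageι]
  exact h x

/-- Every point generizes to a point off the support of an effective Cartier ideal. -/
lemma exists_specializes_cmpl (hI : BlowUp.IsEffCartierIdeal I) (x : X) : ∃ y ∈ cmpl I, y ⤳ x := by
  obtain ⟨U, hxU, f, hf⟩ := isEffCartierIdeal_iff.mp hI x
  obtain ⟨p, hp, hle⟩ := Ideal.exists_minimalPrimes_le (bot_le : ⊥ ≤ (U.2.primeIdealOf ⟨x, hxU⟩).asIdeal)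
  let q : Spec Γ(X, U.1) := (⟨p, hp.1.1⟩ : PrimeSpectrum Γ(X, U.1))
  have hq : q ⤳ U.2.primeIdealOf ⟨x, hxU⟩ := (PrimeSpectrum.le_iff_specializes q _).mp hle
  refine ⟨U.2.fromSpec q, ?_, ?_⟩
  · have hmem : q ∈ U.2.fromSpec ⁻¹ᵁ X.basicOpen f := by
      rw [U.2.fromSpec_preimage_basicOpen]
      exact fun hfp => Set.disjoint_left.mp (Ideal.disjoint_nonZeroDivisors_of_mem_minimalPrimes hp) hfp hf.mem
    have hmem' : U.2.fromSpec q ∈ X.basicOpen f := hmem
    rw [basicOpen_eq hf] at hmem'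
    exact hmem'.1
  · simpa [U.2.fromSpec_primeIdealOf] using hq.map U.2.fromSpec.continuous

/-- A blowing up is an isomorphism off the centre. -/
lemma isIso_blowUp_restrict {b : Y ⟶ X} {C : X.IdealSheafData} (hb : BlowUp.IsBlowUp b C) :
    IsIso (b ∣_ cmpl C) := by
  have h₁ : C.comap (cmpl C).ι = ⊤ := comap_eq_top _ _ fun x => x.2
  obtain ⟨s, hs, -⟩ := hb.2 _ (cmpl C).ι (h₁ ▸ isEffCartierIdeal_top)
  have hr : Set.range s ⊆ Set.range (b ⁻¹ᵁ cmpl C).ι := by
    rintro _ ⟨x, rfl⟩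
    rw [Scheme.Opens.range_ι]
    show b (s x) ∈ cmpl C
    rw [← Scheme.Hom.comp_apply, hs]
    exact x.2
  let s' : (cmpl C).toScheme ⟶ (b ⁻¹ᵁ cmpl C).toScheme := IsOpenImmersion.lift (b ⁻¹ᵁ cmpl C).ι s hr
  refine ⟨s', ?_, ?_⟩
  · rw [← cancel_mono (b ⁻¹ᵁ cmpl C).ι, Category.assoc, IsOpenImmersion.lift_fac, Category.id_comp]
    have h₂ : C.comap ((b ⁻¹ᵁ cmpl C).ι ≫ b) = ⊤ := comap_eq_top _ _ fun x => x.2
    obtain ⟨t, -, ht⟩ := hb.2 _ ((b ⁻¹ᵁ cmpl C).ι ≫ b) (h₂ ▸ isEffCartierIdeal_top)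
    rw [ht ((b ∣_ cmpl C) ≫ s) (by beta_reduce; rw [Category.assoc, hs, morphismRestrict_ι]), ht (b ⁻¹ᵁ cmpl C).ι rfl]
  · rw [← cancel_mono (cmpl C).ι, Category.assoc, morphismRestrict_ι, IsOpenImmersion.lift_fac_assoc, hs,
      Category.id_comp]

end Groth.Agent.EffCartier
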