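import Groth.Agent.Lib.EffCartier.Mul
import Groth.Agent.Lib.EffCartier.Comap

/-!
# Ideal sheaves of finite type: local nature, pullback, sum
-/

universe u

open CategoryTheory AlgebraicGeometry TopologicalSpace

namespace Groth.Agent.EffCartier

variable {X Y : Scheme.{u}} {I J : X.IdealSheafData}

lemma fg_ideal_basicOpen {U : X.affineOpens} (h : (I.ideal U).FG) (r : Γ(X, U.1)) :
    (I.ideal (X.affineBasicOpen r)).FG := by
  rw [← I.map_ideal (U := X.affineBasicOpen r) (V := U) (X.basicOpen_le r)]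
  exact h.map _

/-- Being of finite type is local. -/
lemma isFiniteTypeIdeal_of_forall_exists (h : ∀ x : X, ∃ V : X.affineOpens, x ∈ V.1 ∧ (I.ideal V).FG) :
    BlowUp.IsFiniteTypeIdeal I := by
  intro U
  have : ∀ x : U.1, ∃ r : Γ(X, U.1), x.1 ∈ X.basicOpen r ∧ (I.ideal (X.affineBasicOpen r)).FG := by
    intro ⟨x, hx⟩
    obtain ⟨V, hxV, hV⟩ := h x
    obtain ⟨r, s, hrs, hxr⟩ := exists_basicOpen_le_affine_inter U.2 V.2 x ⟨hx, hxV⟩
    refine ⟨r, hxr, ?_⟩
    rw [show X.affineBasicOpen r = X.affineBasicOpen s from Subtype.ext hrs]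
    exact fg_ideal_basicOpen hV s
  choose r hxr hfg using this
  refine Ideal.fg_of_localizationSpan (Set.range r) ?_ ?_
  · rw [← U.2.self_le_iSup_basicOpen_iff]
    exact fun x hx => Opens.mem_iSup.mpr ⟨⟨_, ⟨x, hx⟩, rfl⟩, hxr ⟨x, hx⟩⟩
  · rintro ⟨_, x, rfl⟩
    have := U.2.isLocalization_basicOpen (r x)
    letI : Algebra Γ(X, U.1) Γ(X, X.basicOpen (r x)) := (X.presheaf.map (homOfLE (X.basicOpen_le (r x))).op).hom.toAlgebra
    let e := IsLocalization.algEquiv (.powers (r x)) Γ(X, X.basicOpen (r x)) (Localization.Away (r x))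
    have he : algebraMap Γ(X, U.1) (Localization.Away (r x)) = e.toAlgHom.toRingHom.comp (algebraMap _ _) :=
      e.toAlgHom.comp_algebraMap.symm
    rw [he, ← Ideal.map_map]
    refine Ideal.FG.map ?_ _
    show ((I.ideal U).map (X.presheaf.map (homOfLE (X.basicOpen_le (r x))).op).hom).FG
    erw [I.map_ideal_basicOpen U (r x)]
    exact hfg x

/-- The pullback of an ideal sheaf of finite type is of finite type. -/
lemma isFiniteTypeIdeal_comap (h : BlowUp.IsFiniteTypeIdeal I) (f : Y ⟶ X) :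
    BlowUp.IsFiniteTypeIdeal (I.comap f) := by
  refine isFiniteTypeIdeal_of_forall_exists fun y => ?_
  obtain ⟨_, ⟨U, hU, rfl⟩, hyU, -⟩ := X.isBasis_affineOpens.exists_subset_of_mem_open (Set.mem_univ (f y)) isOpen_univ
  obtain ⟨_, ⟨V, hV, rfl⟩, hyV, hVU⟩ := Y.isBasis_affineOpens.exists_subset_of_mem_open
    (show y ∈ f ⁻¹ᵁ U from hyU) (f ⁻¹ᵁ U).isOpen
  refine ⟨⟨V, hV⟩, hyV, ?_⟩
  rw [comap_ideal I f ⟨U, hU⟩ ⟨V, hV⟩ hVU]
  exact (h _).map _

/-- The sum of two ideal sheaves of finite type is of finite type. -/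
lemma isFiniteTypeIdeal_sup (hI : BlowUp.IsFiniteTypeIdeal I) (hJ : BlowUp.IsFiniteTypeIdeal J) :
    BlowUp.IsFiniteTypeIdeal (I ⊔ J) := fun U => by
  rw [Scheme.IdealSheafData.ideal_sup]
  exact Submodule.FG.sup (hI U) (hJ U)

end Groth.Agent.EffCartier
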