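import Groth.Prelude.Def_BlowUp2
import Groth.Agent.Lib.EffCartier.Comap
import Mathlib.AlgebraicGeometry.Morphisms.SchemeTheoreticallyDominant
import Mathlib.AlgebraicGeometry.Morphisms.Flat

/-!
# Basic properties of effective Cartier ideal sheaves
-/

universe u

open CategoryTheory AlgebraicGeometry TopologicalSpace
open scoped nonZeroDivisors

namespace Groth.Agent.EffCartier

open AlgebraicGeometry.Scheme AlgebraicGeometry.Scheme.IdealSheafData

variable {X Y : Scheme.{u}}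

/-- The open complement of the support. -/
abbrev cmpl (I : X.IdealSheafData) : X.Opens := I.support.compl

/-- `f` is a nonzerodivisor equation of `I` on the affine open `U`. -/
structure IsEqn (I : X.IdealSheafData) (U : X.affineOpens) (f : Γ(X, U.1)) : Prop where
  mem : f ∈ Γ(X, U.1)⁰
  ideal_eq : I.ideal U = Ideal.span {f}

lemma isEffCartierIdeal_iff {I : X.IdealSheafData} :
    BlowUp.IsEffCartierIdeal I ↔ ∀ x : X, ∃ U : X.affineOpens, x ∈ U.1 ∧ ∃ f, IsEqn I U f :=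
  ⟨fun h x => let ⟨U, hU, f, h₁, h₂⟩ := h x; ⟨U, hU, f, h₁, h₂⟩,
    fun h x => let ⟨U, hU, f, h₁, h₂⟩ := h x; ⟨U, hU, f, h₁, h₂⟩⟩

lemma IsEqn.basicOpen {I : X.IdealSheafData} {U : X.affineOpens} {f : Γ(X, U.1)} (h : IsEqn I U f)
    (g : Γ(X, U.1)) :
    IsEqn I (X.affineBasicOpen g) (X.presheaf.map (homOfLE (X.basicOpen_le g)).op f) := by
  letI : Algebra Γ(X, U.1) Γ(X, (X.affineBasicOpen g).1) := (X.presheaf.map (homOfLE (X.basicOpen_le g)).op).hom.toAlgebra
  have : IsLocalization.Away g Γ(X, (X.affineBasicOpen g).1) := U.2.isLocalization_basicOpen g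
  refine ⟨IsLocalization.map_nonZeroDivisors_le (.powers g) _ ⟨f, h.mem, rfl⟩, ?_⟩
  rw [← I.map_ideal (X.affineBasicOpen_le g), h.ideal_eq, Ideal.map_span, Set.image_singleton]
  rfl

lemma IsEqn.congr {I : X.IdealSheafData} {U V : X.affineOpens} (e : U = V) {f : Γ(X, U.1)} (h : IsEqn I U f) :
    ∃ f', IsEqn I V f' := by
  subst e; exact ⟨f, h⟩

/-- Equations exist on arbitrarily small affine neighbourhoods. -/
lemma exists_isEqn {I : X.IdealSheafData} (hI : BlowUp.IsEffCartierIdeal I) {x : X} {W : X.Opens}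
    (hx : x ∈ W) : ∃ U : X.affineOpens, x ∈ U.1 ∧ U.1 ≤ W ∧ ∃ f, IsEqn I U f := by
  obtain ⟨U, hxU, f, hf⟩ := isEffCartierIdeal_iff.mp hI x
  obtain ⟨g, hg, hxg⟩ := U.2.exists_basicOpen_le (V := W) ⟨x, hx⟩ hxU
  exact ⟨X.affineBasicOpen g, hxg, hg, _, hf.basicOpen g⟩

/-- Common affine neighbourhoods for two effective Cartier ideals. -/
lemma exists_isEqn₂ {I J : X.IdealSheafData} (hI : BlowUp.IsEffCartierIdeal I) (hJ : BlowUp.IsEffCartierIdeal J)
    {x : X} {W : X.Opens} (hx : x ∈ W) :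
    ∃ U : X.affineOpens, x ∈ U.1 ∧ U.1 ≤ W ∧ (∃ f, IsEqn I U f) ∧ ∃ g, IsEqn J U g := by
  obtain ⟨U, hxU, hUW, f, hf⟩ := exists_isEqn hI hx
  obtain ⟨V, hxV, g, hg⟩ := isEffCartierIdeal_iff.mp hJ x
  obtain ⟨r, s, hrs, hxr⟩ := exists_basicOpen_le_affine_inter U.2 V.2 x ⟨hxU, hxV⟩
  exact ⟨X.affineBasicOpen r, hxr, (X.basicOpen_le r).trans hUW, ⟨_, hf.basicOpen r⟩,
    (hg.basicOpen s).congr (Subtype.ext hrs.symm)⟩

/-- The extended ideal is generated by the image of an equation. -/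
lemma comap_ideal_eq_span {I : Y.IdealSheafData} {U : Y.affineOpens} {f : Γ(Y, U.1)} (h : IsEqn I U f)
    (φ : X ⟶ Y) (V : X.affineOpens) (e : V.1 ≤ φ ⁻¹ᵁ U.1) :
    (I.comap φ).ideal V = Ideal.span {φ.appLE U V e f} := by
  rw [comap_ideal I φ U V e, h.ideal_eq, Ideal.map_span, Set.image_singleton]

lemma basicOpen_eq {I : X.IdealSheafData} {U : X.affineOpens} {f : Γ(X, U.1)} (h : IsEqn I U f) :
    X.basicOpen f = cmpl I ⊓ U.1 := by
  ext x
  refine ⟨fun hx => ⟨fun hs => ?_, X.basicOpen_le f hx⟩, fun ⟨hs, hxU⟩ => ?_⟩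
  · have hs' : x ∈ I.support := hs
    rw [mem_support_iff_of_mem (X.basicOpen_le f hx), h.ideal_eq, Scheme.zeroLocus_span,
      Scheme.mem_zeroLocus_iff] at hs'
    exact hs' f rfl hx
  · by_contra hx
    refine hs ?_
    show x ∈ I.support
    rw [mem_support_iff_of_mem hxU, h.ideal_eq, Scheme.zeroLocus_span, Scheme.mem_zeroLocus_iff]
    intro r hr; rw [Set.mem_singleton_iff] at hr; subst hr; exact hx

/-- The complement of an effective Cartier divisor has affine inclusion. -/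
lemma isAffineHom_interior {I : X.IdealSheafData} (hI : BlowUp.IsEffCartierIdeal I) :
    IsAffineHom (cmpl I).ι := by
  refine isAffineHom_of_forall_exists_isAffineOpen _ fun x => ?_
  obtain ⟨U, hxU, f, hf⟩ := isEffCartierIdeal_iff.mp hI x
  refine ⟨U.1, hxU, U.2, ?_⟩
  have h : IsAffineOpen ((cmpl I).ι ''ᵁ ((cmpl I).ι ⁻¹ᵁ U.1)) := by
    rw [Scheme.Hom.image_preimage_eq_opensRange_inf, Scheme.Opens.opensRange_ι, ← basicOpen_eq hf]
    exact U.2.basicOpen f
  exact ((cmpl I).ι.isAffineOpen_iff_of_isOpenImmersion).mp h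

lemma quasiCompact_interior {I : X.IdealSheafData} (hI : BlowUp.IsEffCartierIdeal I) :
    QuasiCompact (cmpl I).ι :=
  have := isAffineHom_interior hI
  inferInstance

lemma quasiCompact_preimage_interior {I : Y.IdealSheafData} (hI : BlowUp.IsEffCartierIdeal I) (φ : X ⟶ Y) :
    QuasiCompact (φ ⁻¹ᵁ (cmpl I)).ι :=
  MorphismProperty.of_isPullback (P := @QuasiCompact) (isPullback_morphismRestrict φ (cmpl I))
    (quasiCompact_interior hI)

/-- Inverse image of an effective Cartier ideal along a morphism whose preimage of the complement is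
scheme-theoretically dense. -/
lemma comap_of_dominant {I : Y.IdealSheafData} (hI : BlowUp.IsEffCartierIdeal I) (φ : X ⟶ Y)
    [IsSchemeTheoreticallyDominant (φ ⁻¹ᵁ (cmpl I)).ι] : BlowUp.IsEffCartierIdeal (I.comap φ) := by
  have := quasiCompact_preimage_interior hI φ
  refine isEffCartierIdeal_iff.mpr fun x => ?_
  obtain ⟨U, hxU, f, hf⟩ := isEffCartierIdeal_iff.mp hI (φ x)
  obtain ⟨_, ⟨V, hV, rfl⟩, hxV, hVU : V ≤ φ ⁻¹ᵁ U.1⟩ :=
    X.isBasis_affineOpens.exists_subset_of_mem_open (show x ∈ φ ⁻¹ᵁ U.1 from hxU) (φ ⁻¹ᵁ U.1).isOpen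
  refine ⟨⟨V, hV⟩, hxV, φ.appLE U V hVU f, ?_, comap_ideal_eq_span hf φ ⟨V, hV⟩ hVU⟩
  rw [mem_nonZeroDivisors_iff_right]
  intro z hz
  let U₀ := φ ⁻¹ᵁ (cmpl I)
  apply (U₀.ι.app_injective V)
  rw [map_zero]
  have hu : IsUnit (U₀.ι.app V (φ.appLE U V hVU f)) := by
    have hle : U₀.ι ''ᵁ (U₀.ι ⁻¹ᵁ V) ≤ X.basicOpen (φ.appLE U V hVU f) := by
      rw [Scheme.Hom.image_preimage_eq_opensRange_inf, Scheme.Opens.opensRange_ι, Scheme.Hom.appLE,
        CommRingCat.comp_apply, Scheme.basicOpen_res, ← Scheme.preimage_basicOpen, basicOpen_eq hf]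
      exact fun y hy => ⟨hy.2, hy.1, hVU hy.2⟩
    rw [Scheme.Opens.ι_app, Subsingleton.elim (homOfLE _) (homOfLE hle ≫ homOfLE (X.basicOpen_le _)),
      op_comp, Functor.map_comp]
    exact IsUnit.map (X.presheaf.map (homOfLE hle).op).hom (RingedSpace.isUnit_res_basicOpen _ _)
  refine hu.mul_left_eq_zero.mp ?_
  rw [← map_mul, hz, map_zero]

/-- A locally principal ideal sheaf containing an effective Cartier one is effective Cartier. -/
lemma comap_of_le {I : X.IdealSheafData} {J : Y.IdealSheafData} (hI : BlowUp.IsEffCartierIdeal I)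
    (hJ : BlowUp.IsEffCartierIdeal J) (φ : X ⟶ Y) (h : I ≤ J.comap φ) :
    BlowUp.IsEffCartierIdeal (J.comap φ) := by
  refine isEffCartierIdeal_iff.mpr fun x => ?_
  obtain ⟨U, hxU, g, hg⟩ := isEffCartierIdeal_iff.mp hJ (φ x)
  obtain ⟨V, hxV, hVU, f, hf⟩ := exists_isEqn hI (show x ∈ φ ⁻¹ᵁ U.1 from hxU)
  have hc := comap_ideal_eq_span hg φ V hVU
  refine ⟨V, hxV, _, ?_, hc⟩
  have hle := h V
  rw [hc, hf.ideal_eq, Ideal.span_singleton_le_span_singleton] at hle
  obtain ⟨c, hc'⟩ := hle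
  have hm := hf.mem
  rw [hc', mul_mem_nonZeroDivisors] at hm
  exact hm.1

end Groth.Agent.EffCartier
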